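import Mathlib.CategoryTheory.Monoidal.Closed.Basic
import Mathlib.CategoryTheory.Monoidal.Cartesian.Basic
import Mathlib.CategoryTheory.Comma.Over.Pullback
import Mathlib.CategoryTheory.Adjunction.Unique

/-!
`Over.star` followed by forgetting is tensoring, in a cartesian monoidal category.
-/

set_option autoImplicit false
set_option backward.isDefEq.respectTransparency false
set_option backward.isDefEq.respectTransparency.types false

universe v u

open CategoryTheory Category Limits MonoidalCategory CartesianMonoidalCategory

namespace Groth.Agent.CartLib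

variable {C : Type u} [Category.{v} C] [CartesianMonoidalCategory C] [HasBinaryProducts C] (Z : C)

/-- The comparison of the two products. -/
noncomputable def prodTensorIso (W : C) : Z ⨯ W ≅ Z ⊗ W where
  hom := CartesianMonoidalCategory.lift Limits.prod.fst Limits.prod.snd
  inv := Limits.prod.lift (fst Z W) (snd Z W)
  hom_inv_id := by apply Limits.prod.hom_ext <;> simp
  inv_hom_id := by apply CartesianMonoidalCategory.hom_ext <;> simp

theorem prodTensorIso_natural {W W' : C} (f : W ⟶ W') :
    Limits.prod.map (𝟙 Z) f ≫ (prodTensorIso Z W').hom = (prodTensorIso Z W).hom ≫ Z ◁ f := by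
  apply CartesianMonoidalCategory.hom_ext <;> simp [prodTensorIso]

/-- `Over.star Z ⋙ Over.forget Z ≅ tensorLeft Z`. -/
noncomputable def starForget : Over.star Z ⋙ Over.forget Z ≅ tensorLeft Z :=
  NatIso.ofComponents (prodTensorIso Z) (fun f => prodTensorIso_natural Z f)

theorem rightAdjoint_star_iso_ihom [MonoidalClosed C] [(Over.star Z).IsLeftAdjoint] (Y : C) :
    Nonempty (((Over.star Z).rightAdjoint).obj ((Over.star Z).obj Y) ≅ (ihom Z).obj Y) := by
  let a := ((Adjunction.ofIsLeftAdjoint (Over.star Z)).comp (Over.forgetAdjStar Z)).ofNatIsoLeft (starForget Z)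
  exact ⟨((Adjunction.rightAdjointUniq (ihom.adjunction Z) a).app Y).symm⟩

end Groth.Agent.CartLib
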